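import Cfsg.Agent.H789.RankOneSetup

/-!
# The torus of a rank one configuration (helper789)
-/

set_option autoImplicit false
set_option linter.unusedSectionVars false

namespace Cfsg.Agent.H789.RankOne

open Matrix

/-- The diagonal matrix with entries `c`, `c⁻¹`. -/
def dia {F : Type*} [Field F] (c : Fˣ) : SpecialLinearGroup (Fin 2) F :=
  ⟨!![(c : F), 0; 0, ((c⁻¹ : Fˣ) : F)], by rw [det_fin_two_of]; simp⟩

theorem dia_mulVec {F : Type*} [Field F] (c : Fˣ) (v : Fin 2 → F) :
    (dia c : Matrix (Fin 2) (Fin 2) F).mulVec v = ![(c : F) * v 0, ((c⁻¹ : Fˣ) : F) * v 1] := by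
  ext i
  fin_cases i <;> simp [dia, Matrix.mulVec, dotProduct, Fin.sum_univ_two]

variable {L M : Type*} [Group L] [AddCommGroup M] [DistribMulAction L M]

/-- `[t, ⟨g⟩]`. -/
def comm (t : AddSubgroup M) (g : L) : AddSubgroup M :=
  AddSubgroup.closure {z : M | ∃ i : ℕ, ∃ m ∈ t, z = g ^ i • m - m}

namespace Setup

variable {A N : Subgroup L} {t : AddSubgroup M} (h : Setup A N t)
include h

theorem main [Finite L] [Finite M] {p : ℕ} [Fact p.Prime] (hp : p ≠ 2) (hA : IsPGroup p A)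
    (hM : ∀ m : M, ∃ n : ℕ, p ^ n • m = 0) {k : ℕ} (hk : k.Coprime p)
    (hkN : ∀ g ∈ N, ∀ m ∈ t, g ^ k • m = m) :
    ∃ g ∈ N, (∃ m ∈ t, g • m ≠ m) ∧
      ∀ u ∈ comm t g, ∀ v ∈ comm t g, u ≠ 0 → v ≠ 0 → ∃ i : ℕ, g ^ i • u = v := by
  classical
  set C := fx M (⊤ : Subgroup L) with hC
  letI inst : DistribMulAction L (M ⧸ C) := actQ C smul_mem_fx_top
  have hsm : ∀ (l : L) (m : M), l • (QuotientAddGroup.mk' C m) = QuotientAddGroup.mk' C (l • m) :=
    fun l m => rfl
  have hR := h.rank hC hsm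
  set U := (fx M A).map (QuotientAddGroup.mk' C) with hU
  obtain ⟨F, iF, iFin, hcF, ρ, e, hρ, he, heU⟩ := hR.exists_natural hA
  have hz : ∀ m : M, QuotientAddGroup.mk' C m = 0 ↔ m ∈ C := fun m => QuotientAddGroup.eq_zero_iff m
  have htU : ∀ m ∈ t, QuotientAddGroup.mk' C m ∈ U := fun m hm =>
    ⟨m, fun a ha => h.fixt a ha m hm, rfl⟩
  -- a vector of `t` outside `C`
  obtain ⟨m₁, hm₁, l₁, hl₁⟩ := h.mov
  have hm₁C : m₁ ∉ C := fun hc => hl₁ (hc l₁ trivial)
  -- `|F| ≥ 3`
  have hcard3 : 3 ≤ Fintype.card F := by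
    rw [hcF]
    have h1 : p ∣ Nat.card U := by
      have h2 : addOrderOf (⟨QuotientAddGroup.mk' C m₁, htU m₁ hm₁⟩ : U) = p := by
        apply addOrderOf_eq_prime
        · apply Subtype.ext
          exact hR.nsmul_eq_zero hA _
        · intro h0
          exact hm₁C ((hz m₁).1 (congrArg Subtype.val h0))
      rw [← h2]
      exact addOrderOf_dvd_natCard _
    have h2 : p.Prime := Fact.out
    have h3 := h2.two_le
    have h4 : p ≤ Nat.card U := Nat.le_of_dvd Nat.card_pos h1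
    omega
  obtain ⟨c, hc⟩ := IsCyclic.exists_generator (α := Fˣ)
  have hc1 : c ≠ 1 := by
    rintro rfl
    have h1 : Fintype.card Fˣ = 1 := by
      rw [Fintype.card_eq_one_iff]
      refine ⟨1, fun y => ?_⟩
      have h2 := hc y
      simpa using h2
    rw [Fintype.card_units] at h1
    omega
  obtain ⟨g, hg⟩ := hρ (dia c)
  have hgU : ∀ q ∈ U, g • q ∈ U := by
    intro q hq
    rw [heU] at hq ⊢
    rw [he, hg, dia_mulVec]
    simp [hq]
  have hgN : g ∈ N := by
    have h1 : g⁻¹ ∈ N := hR.mem_N (g := g⁻¹) (by rw [inv_inv]; exact hgU)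
    simpa using N.inv_mem h1
  have hpow : ∀ (n : ℕ) (q : M ⧸ C), q ∈ U → g ^ n • q ∈ U ∧ e (g ^ n • q) 0 = (c : F) ^ n * e q 0 := by
    intro n
    induction n with
    | zero => intro q hq; simp [hq]
    | succ n ih =>
      intro q hq
      obtain ⟨h1, h2⟩ := ih (g • q) (hgU q hq)
      rw [pow_succ, mul_smul]
      refine ⟨h1, ?_⟩
      rw [h2, he, hg, dia_mulVec]
      simp only [Matrix.cons_val_zero]
      ring
  have hstab : ∀ (n : ℕ), ∀ m ∈ t, g ^ n • m ∈ t := fun n m hm => h.stab _ (pow_mem hgN n) m hm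
  have hDt : comm t g ≤ t := by
    rw [comm, AddSubgroup.closure_le]
    rintro _ ⟨i, m, hm, rfl⟩
    exact t.sub_mem (hstab i m hm) hm
  have hDg : ∀ n : ℕ, ∀ u ∈ comm t g, g ^ n • u ∈ comm t g := by
    intro n u hu
    have h1 : comm t g ≤ (comm t g).comap (DistribSMul.toAddMonoidHom M (g ^ n)) := by
      rw [comm, AddSubgroup.closure_le]
      rintro _ ⟨i, m, hm, rfl⟩
      apply AddSubgroup.subset_closure
      refine ⟨i, g ^ n • m, hstab n m hm, ?_⟩
      show g ^ n • (g ^ i • m - m) = _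
      rw [smul_sub, ← mul_smul, ← mul_smul, ← pow_add, ← pow_add, add_comm]
    exact h1 hu
  -- the trace
  have htr : ∀ u ∈ comm t g, ∑ j ∈ Finset.range k, g ^ j • u = 0 := by
    intro u hu
    let Tr : M →+ M := ∑ j ∈ Finset.range k, DistribSMul.toAddMonoidHom M (g ^ j)
    have hTr : ∀ m, Tr m = ∑ j ∈ Finset.range k, g ^ j • m := fun m => by
      simp [Tr, AddMonoidHom.finset_sum_apply]
    have h1 : ∀ m ∈ t, Tr (g • m) = Tr m := by
      intro m hm
      have h2 : Tr (g • m) + m = Tr m + m := by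
        rw [hTr, hTr]
        have h3 := Finset.sum_range_succ (fun j => g ^ j • m) k
        have h4 := Finset.sum_range_succ' (fun j => g ^ j • m) k
        rw [h3] at h4
        have h5 : g ^ k • m = m := hkN g hgN m hm
        rw [h5, pow_zero, one_smul] at h4
        rw [h4]
        congr 1
        refine Finset.sum_congr rfl fun j _ => ?_
        rw [pow_succ, mul_smul]
      exact add_right_cancel h2
    have h2 : ∀ (n : ℕ), ∀ m ∈ t, Tr (g ^ n • m) = Tr m := by
      intro n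
      induction n with
      | zero => intro m _; simp
      | succ n ih =>
        intro m hm
        rw [pow_succ, mul_smul, ih _ (h.stab g hgN m hm), h1 m hm]
    have h3 : comm t g ≤ Tr.ker := by
      rw [comm, AddSubgroup.closure_le]
      rintro _ ⟨i, m, hm, rfl⟩
      show Tr _ = 0
      rw [map_sub, h2 i m hm, sub_self]
    rw [← hTr]
    exact h3 hu
  have hDC : ∀ u ∈ comm t g, u ∈ C → u = 0 := by
    intro u hu huC
    have h1 := htr u hu
    have h2 : ∀ j : ℕ, g ^ j • u = u := fun j => huC _ trivial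
    simp only [h2, Finset.sum_const, Finset.card_range] at h1
    obtain ⟨n, hn⟩ := hM u
    have h3 : (k.gcd (p ^ n)) • u = 0 := by
      have h4 : addOrderOf u ∣ k.gcd (p ^ n) :=
        Nat.dvd_gcd (addOrderOf_dvd_of_nsmul_eq_zero h1) (addOrderOf_dvd_of_nsmul_eq_zero hn)
      exact addOrderOf_dvd_iff_nsmul_eq_zero.1 h4
    rw [Nat.Coprime.pow_right n hk, one_nsmul] at h3
    exact h3
  have hinjU : ∀ q ∈ U, e q 0 = 0 → q = 0 := by
    intro q hq h0
    apply e.injective
    rw [map_zero]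
    ext i
    fin_cases i
    · exact h0
    · exact (heU q).1 hq
  refine ⟨g, hgN, ?_, ?_⟩
  · by_contra hcon
    push Not at hcon
    have h1 := hcon m₁ hm₁
    have h2 := (hpow 1 _ (htU m₁ hm₁)).2
    rw [pow_one, pow_one, hsm, h1] at h2
    have h3 : e (QuotientAddGroup.mk' C m₁) 0 ≠ 0 := fun h0 =>
      hm₁C ((hz m₁).1 (hinjU _ (htU m₁ hm₁) h0))
    apply hc1
    apply Units.ext
    have h4 : ((c : F) - 1) * e (QuotientAddGroup.mk' C m₁) 0 = 0 := by
      rw [sub_mul, one_mul, ← h2, sub_self]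
    rw [Units.val_one]
    exact sub_eq_zero.1 ((mul_eq_zero.1 h4).resolve_right h3)
  · intro u hu v hv hu0 hv0
    have hu1 : e (QuotientAddGroup.mk' C u) 0 ≠ 0 := fun h0 =>
      hu0 (hDC u hu ((hz u).1 (hinjU _ (htU u (hDt hu)) h0)))
    have hv1 : e (QuotientAddGroup.mk' C v) 0 ≠ 0 := fun h0 =>
      hv0 (hDC v hv ((hz v).1 (hinjU _ (htU v (hDt hv)) h0)))
    obtain ⟨n, hn⟩ : ∃ n : ℕ, c ^ n = (Units.mk0 _ hv1) * (Units.mk0 _ hu1)⁻¹ := by
      have h1 := hc ((Units.mk0 _ hv1) * (Units.mk0 _ hu1)⁻¹)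
      rw [← mem_powers_iff_mem_zpowers] at h1
      exact h1
    refine ⟨n, ?_⟩
    have h1 : g ^ n • u - v ∈ comm t g := (comm t g).sub_mem (hDg n u hu) hv
    have h2 : QuotientAddGroup.mk' C (g ^ n • u - v) = 0 := by
      apply hinjU _ (htU _ (hDt h1))
      rw [map_sub, ← hsm, map_sub, Pi.sub_apply, (hpow n _ (htU u (hDt hu))).2]
      have h3 := congrArg (fun z : Fˣ => (z : F)) hn
      simp only [Units.val_pow_eq_pow_val, Units.val_mul, Units.val_mk0, Units.val_inv_eq_inv_val] at h3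
      rw [h3]
      field_simp
      ring
    exact sub_eq_zero.1 (hDC _ h1 ((hz _).1 h2))

end Setup

end Cfsg.Agent.H789.RankOne
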