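import Cfsg.Agent.H789.FusTorusA
import Cfsg.Agent.H789.LocalTorus
import Cfsg.Agent.H753.NormModel
import Cfsg.Agent.H781.NormSys
import Cfsg.Agent.H771.ModelUnique
import Cfsg.Agent.H802.FusKSat

/-!
# Central subgroups of `S` which are not weakly closed: the torus (helper789)
-/

set_option autoImplicit false

namespace Cfsg.Agent.H789.FusTorus

open Cfsg Cfsg.FusionSystem Cfsg.Agent.H802 Cfsg.Agent.H771

universe u v

variable {Ω : Type u} [Group Ω] {S : Subgroup Ω}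

/-- The data in the model. -/
theorem torus_of_model {p : ℕ} [Fact p.Prime] (hp : p ≠ 2) {N : Subgroup Ω} [Finite N]
    {E : FusionSystem N} {G : Type v} [Group G] [Finite G] {ι : ↥N →* G}
    (hreal : E.IsRealizedBy ι) (hSyl : ∃ P : Sylow p G, (P : Subgroup G) = ι.range)
    {T H : Subgroup Ω} (hTH : T ≤ H) (hHN : H ≤ N) (hTc : T ≤ Subgroup.centralizer (N : Set Ω))
    (hH : ((H.subgroupOf N).map ι).Normal) (hHp : IsPGroup p H)
    (hJ : Fixes E T (thompsonSubgroupAOf N)) (hT : ¬ Fixes E T H) :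
    ∃ X : Subgroup (MulAut ↥T), X ≤ E.autGroup T ∧ X ≠ ⊥ ∧ IsCyclic ↥X ∧
      (Nat.card ↥X).Coprime p ∧
      ∀ a b : ↥T, a ∈ Subgroup.closure {y : ↥T | ∃ ψ ∈ X, ∃ t : ↥T, y = ψ t * t⁻¹} →
        b ∈ Subgroup.closure {y : ↥T | ∃ ψ ∈ X, ∃ t : ↥T, y = ψ t * t⁻¹} →
        a ≠ 1 → b ≠ 1 → ∃ ψ ∈ X, ψ a = b := by
  have hTN : T ≤ N := hTH.trans hHN
  have hinj := hreal.1
  have hfT : Finite T := finite_of_le hTN
  -- the isomorphism `T ≃ ι(T)`
  set T' : Subgroup G := (T.subgroupOf N).map ι with hT'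
  let e₀ : ↥T →* G := ι.comp (Subgroup.inclusion hTN)
  have he₀i : Function.Injective e₀ := hinj.comp (Subgroup.inclusion_injective hTN)
  have he₀m : ∀ x : T, e₀ x ∈ T' := fun x => ⟨⟨x, hTN x.2⟩, x.2, rfl⟩
  let e : ↥T ≃* ↥T' := MulEquiv.ofBijective (e₀.codRestrict T' he₀m) (by
    constructor
    · intro x y hxy
      exact he₀i (congrArg Subtype.val hxy)
    · rintro ⟨_, y, hy, rfl⟩
      exact ⟨⟨y, hy⟩, rfl⟩)
  have he : ∀ x : T, ((e x : T') : G) = ι ⟨x, hTN x.2⟩ := fun x => rfl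
  -- conjugation normalizing `T'`
  have hnorm : ∀ g : G, (∀ (t : Ω) (ht : t ∈ T), g * ι ⟨t, hTN ht⟩ * g⁻¹ ∈ T') →
      g ∈ Subgroup.normalizer (T' : Set G) := by
    intro g hg
    refine Subgroup.mem_normalizer_iff_map_conj_eq.2 (Subgroup.eq_of_le_of_card_ge ?_ ?_)
    · rintro _ ⟨_, ⟨y, hy, rfl⟩, rfl⟩
      exact hg y hy
    · exact (Cfsg.Agent.PLocal.ThompsonJA.card_map_of_injective _ (MulAut.conj g).injective _).ge
  have hmemT : ∀ (x : N), ι x ∈ T' → (x : Ω) ∈ T := by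
    rintro x ⟨y, hy, hyx⟩
    rw [← hinj hyx]
    exact hy
  -- Sylow
  obtain ⟨P, hP⟩ := hSyl
  have hS : SylIn p ι.range (⊤ : Subgroup G) := hP ▸ sylIn_top_of_sylow P
  -- centrality
  have hTc' : ι.range ≤ Subgroup.centralizer (T' : Set G) := by
    rintro _ ⟨x, rfl⟩
    refine Subgroup.mem_centralizer_iff.2 ?_
    rintro _ ⟨y, hy, rfl⟩
    have h1 : x * y = y * x := Subtype.ext (Subgroup.mem_centralizer_iff.1 (hTc hy) x x.2)
    rw [← map_mul, ← map_mul, h1]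
  have hQp : IsPGroup p ((H.subgroupOf N).map ι) :=
    (hHp.comap_of_injective N.subtype N.subtype_injective).map ι
  have hTQ : T' ≤ (H.subgroupOf N).map ι := Subgroup.map_mono (fun x hx => hTH hx)
  -- the Thompson subgroup
  have e1 : (thompsonSubgroupAOf (⊤ : Subgroup N)).map N.subtype = thompsonSubgroupAOf N := by
    rw [Cfsg.Agent.PLocal.ThompsonJA.map_thompsonSubgroupAOf N.subtype N.subtype_injective]
    congr 1
    rw [← MonoidHom.range_eq_map, Subgroup.range_subtype]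
  have e2 : (thompsonSubgroupAOf (⊤ : Subgroup N)).map ι = thompsonSubgroupAOf ι.range := by
    rw [Cfsg.Agent.PLocal.ThompsonJA.map_thompsonSubgroupAOf ι hinj]
    congr 1
    rw [← MonoidHom.range_eq_map]
  have hJN : thompsonSubgroupAOf N ≤ N := Cfsg.Agent.PLocal.ThompsonJA.thompsonSubgroupAOf_le N
  have hJmem : ∀ x : N, (x : Ω) ∈ thompsonSubgroupAOf N → ι x ∈ thompsonSubgroupAOf ι.range := by
    intro x hx
    rw [← e1] at hx
    obtain ⟨y, hy, hyx⟩ := hx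
    rw [← e2]
    exact ⟨y, hy, by rw [show y = x from Subtype.ext hyx]⟩
  have hJmem' : ∀ z ∈ thompsonSubgroupAOf ι.range, ∃ x : N, (x : Ω) ∈ thompsonSubgroupAOf N ∧
      ι x = z := by
    intro z hz
    rw [← e2] at hz
    obtain ⟨y, hy, rfl⟩ := hz
    refine ⟨y, ?_, rfl⟩
    rw [← e1]
    exact ⟨y, hy, rfl⟩
  have hTJ : T ≤ thompsonSubgroupAOf N := le_thompson hTN hTc
  have hJ' : Subgroup.normalizer (thompsonSubgroupAOf ι.range : Set G) ≤
      Subgroup.normalizer (T' : Set G) := by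
    intro g hg
    rw [Subgroup.mem_normalizer_iff] at hg
    apply hnorm
    intro t ht
    have hall : ∀ x : thompsonSubgroupAOf N, ∃ n : N, ι n = g * ι ⟨x, hJN x.2⟩ * g⁻¹ := by
      intro x
      obtain ⟨n, -, hn⟩ := hJmem' _ ((hg _).1 (hJmem ⟨x, hJN x.2⟩ x.2))
      exact ⟨n, hn⟩
    obtain ⟨f, ⟨φ, hφ, hφf⟩, hf⟩ := Cfsg.Agent.H753.exists_mp_of_conj hreal hJN g hall
    have hφm : ∀ x : thompsonSubgroupAOf N, φ x ∈ thompsonSubgroupAOf N := by
      intro x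
      obtain ⟨hfx, h1⟩ := hf x x.2
      obtain ⟨n, hn, h2⟩ := hJmem' _ ((hg _).1 (hJmem ⟨x, hJN x.2⟩ x.2))
      have h3 : n = ⟨f x, hfx⟩ := hinj (h2.trans h1.symm)
      rw [hφf x x.2]
      rw [h3] at hn
      exact hn
    have h4 := hJ φ hφ hφm t (hTJ ht) ht
    rw [hφf t (hTJ ht)] at h4
    obtain ⟨hft, h5⟩ := hf t (hTJ ht)
    rw [← h5]
    exact ⟨⟨f t, hft⟩, h4, rfl⟩
  have hTtop : Subgroup.normalizer (T' : Set G) ≠ ⊤ := by
    intro htop
    apply hT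
    intro φ hφ hφH x hx hxT
    obtain ⟨g, hg⟩ := (hreal.2 H hHN φ (fun y => hHN (hφH y))).1 hφ
    have h1 : g ∈ Subgroup.normalizer (T' : Set G) := by rw [htop]; exact Subgroup.mem_top _
    rw [Subgroup.mem_normalizer_iff] at h1
    have h2 := (h1 (ι ⟨x, hHN hx⟩)).1 ⟨⟨x, hHN hx⟩, hxT, rfl⟩
    rw [← hg ⟨x, hx⟩] at h2
    exact hmemT _ h2
  obtain ⟨g, χ, hχg, hχ1, hχp, hχt⟩ := Cfsg.Agent.H789.LocalTorus.exists_torus hp hS hTc' hH hQp
    hTQ hJ' hTtop
  -- transport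
  set c : MulAut ↥T' ≃* MulAut ↥T := MulAut.congr e.symm with hc
  have hcapp : ∀ (ψ : MulAut ↥T') (x : T), e (c ψ x) = ψ (e x) := by
    intro ψ x
    show e (e.symm (ψ (e.symm.symm x))) = ψ (e x)
    rw [MulEquiv.apply_symm_apply, MulEquiv.symm_symm]
  have hmem : c χ ∈ E.autGroup T := by
    rw [mem_autGroup_iff E hTN]
    rw [hreal.2 T hTN _ (fun x => hTN ((c χ x).2))]
    refine ⟨g, fun x => ?_⟩
    have h1 := congrArg Subtype.val (hcapp χ x)
    rw [hχg] at h1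
    exact h1
  have hclos : ∀ a : T, a ∈ Subgroup.closure {y : ↥T | ∃ ψ ∈ Subgroup.zpowers (c χ), ∃ t : ↥T,
      y = ψ t * t⁻¹} → e a ∈ Subgroup.closure {y : ↥T' | ∃ ψ ∈ Subgroup.zpowers χ, ∃ t : ↥T',
      y = ψ t * t⁻¹} := by
    intro a ha
    have hle : Subgroup.closure {y : ↥T | ∃ ψ ∈ Subgroup.zpowers (c χ), ∃ t : ↥T,
      y = ψ t * t⁻¹} ≤ (Subgroup.closure {y : ↥T' | ∃ ψ ∈ Subgroup.zpowers χ, ∃ t : ↥T',
      y = ψ t * t⁻¹}).comap e.toMonoidHom := by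
      rw [Subgroup.closure_le]
      rintro _ ⟨ψ, ⟨k, rfl⟩, t, rfl⟩
      apply Subgroup.subset_closure
      refine ⟨χ ^ k, ⟨k, rfl⟩, e t, ?_⟩
      show e ((c χ ^ k) t * t⁻¹) = _
      rw [map_mul, map_inv, ← map_zpow, hcapp]
    exact hle ha
  refine ⟨Subgroup.zpowers (c χ), ?_, ?_, inferInstance, ?_, ?_⟩
  · rw [Subgroup.zpowers_le]
    exact hmem
  · intro h
    rw [Subgroup.zpowers_eq_bot] at h
    exact hχ1 (c.injective (h.trans (map_one c).symm))
  · rw [Nat.card_zpowers] at hχp ⊢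
    rwa [MulEquiv.orderOf_eq]
  · intro a b ha hb ha1 hb1
    obtain ⟨ψ, ⟨k, rfl⟩, h1⟩ := hχt (e a) (hclos a ha) (e b) (hclos b hb)
      (fun h => ha1 (e.injective (h.trans (map_one e).symm)))
      (fun h => hb1 (e.injective (h.trans (map_one e).symm)))
    refine ⟨(c χ) ^ k, ⟨k, rfl⟩, e.injective ?_⟩
    rw [← map_zpow, hcapp]
    exact h1

/-- **The main theorem.** -/
theorem exists_torus {p : ℕ} [Fact p.Prime] [Finite S] (hS : IsPGroup p S) {F : FusionSystem S}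
    (hF : F.IsSaturated p) (hp : p ≠ 2) {T : Subgroup Ω} (hTS : T ≤ S)
    (hTc : T ≤ Subgroup.centralizer (S : Set Ω)) (hJ : Fixes F T (thompsonSubgroupAOf S))
    (hw : ¬ F.WeaklyClosed T) :
    ∃ X : Subgroup (MulAut ↥T), X ≤ F.autGroup T ∧ X ≠ ⊥ ∧ IsCyclic ↥X ∧
      (Nat.card ↥X).Coprime p ∧
      ∀ a b : ↥T, a ∈ Subgroup.closure {y : ↥T | ∃ ψ ∈ X, ∃ t : ↥T, y = ψ t * t⁻¹} →
        b ∈ Subgroup.closure {y : ↥T | ∃ ψ ∈ X, ∃ t : ↥T, y = ψ t * t⁻¹} →
        a ≠ 1 → b ≠ 1 → ∃ ψ ∈ X, ψ a = b := by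
  obtain ⟨H, hTH, hHn, hHc, hH, hmax⟩ := exists_moving hS hF hTS hTc hJ hw
  have hHS := hHn.1
  set N := normalizerIn S H with hN
  have hNS : N ≤ S := inf_le_left
  have hfN : Finite N := finite_of_le hNS
  have hHN : H ≤ N := Cfsg.Agent.H802.le_normalizerIn hHS
  have hE := Cfsg.Agent.H781.isNormalizerSystem_normSys F H hHS
  set E := Cfsg.Agent.H781.normSys F H hHS with hEdef
  have hEs : E.IsSaturated p := normalizerSystem_isSaturated hS hF hHn hE
  have hEn : E.IsNormal H := Cfsg.Agent.H753.isNormal_normalizerSystem hHS hE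
  have hEc : E.IsCentric H := Cfsg.Agent.H753.isCentric_normalizerSystem hE hHc
  have hNp : IsPGroup p N := hS.to_le hNS
  obtain ⟨G, _, ι, hM, hQn, -⟩ := exists_model hNp hEs hEn hEc
  obtain ⟨hfG, hreal, hSyl, -⟩ := hM
  have hEF : ∀ (P : Subgroup Ω) (φ : P →* Ω), φ ∈ E.Hom P → φ ∈ F.Hom P := by
    intro P φ hφ
    rw [hE] at hφ
    exact hφ.1
  have hTN : T ≤ N := hTH.trans hHN
  have hTcN : T ≤ Subgroup.centralizer (N : Set Ω) := hTc.trans (Subgroup.centralizer_le hNS)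
  have hJ₀ : Fixes F T (thompsonSubgroupAOf N) := by
    by_cases hNeq : N = S
    · rw [hNeq]
      exact hJ
    · by_contra hno
      have hJN : thompsonSubgroupAOf N ≤ N :=
        Cfsg.Agent.PLocal.ThompsonJA.thompsonSubgroupAOf_le N
      have h1 := hmax _ (le_thompson hTN hTcN) (hJN.trans hNS) hno
      have h2 := card_lt_card_normalizerIn hS hNS hNeq
      have h3 : normalizerIn S N ≤ normalizerIn S (thompsonSubgroupAOf N) :=
        inf_le_inf_left _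
          (Cfsg.Agent.PLocal.ThompsonJA.normalizer_le_normalizer_thompsonSubgroupAOf N)
      have hf3 : Finite (normalizerIn S (thompsonSubgroupAOf N)) := finite_of_le inf_le_left
      have h4 := Subgroup.card_le_of_le h3
      omega
  have hJE : Fixes E T (thompsonSubgroupAOf N) :=
    fun φ hφ hφm x hx hxT => hJ₀ φ (hEF _ φ hφ) hφm x hx hxT
  have hHE : ¬ Fixes E T H := by
    intro h
    apply hH
    intro φ hφ hφm x hx hxT
    refine h φ ?_ hφm x hx hxT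
    rw [hE]
    have hfH : Finite H := finite_of_le hHS
    rw [mem_normalizerHom_iff]
    have hle : H ⊔ H ≤ H := sup_le le_rfl le_rfl
    exact ⟨hHN, fun x => hHN (hφm x), _, restrict_mem hφ hle, fun x hx hx' => rfl,
      fun y hy hy' => hφm ⟨y, hy⟩⟩
  obtain ⟨X, hX1, hX2, hX3, hX4, hX5⟩ := torus_of_model hp hreal hSyl hTH hHN hTcN hQn
    (hS.to_le hHS) hJE hHE
  refine ⟨X, hX1.trans ?_, hX2, hX3, hX4, hX5⟩
  intro α hα
  rw [mem_autGroup_iff E hTN] at hα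
  rw [mem_autGroup_iff F hTS]
  exact hEF _ _ hα

/-- The hypothesis on the normalizer systems. -/
theorem fixes_of_isSubsystemOf [Finite S] {F : FusionSystem S} {T : Subgroup Ω} (hTS : T ≤ S)
    (hTc : T ≤ Subgroup.centralizer (S : Set Ω))
    (hJT : ∀ NJ : FusionSystem (normalizerIn S (thompsonSubgroupAOf S)),
      F.IsNormalizerSystem (thompsonSubgroupAOf S) NJ → ∀ NT : FusionSystem (normalizerIn S T),
        F.IsNormalizerSystem T NT → NJ.IsSubsystemOf NT) : Fixes F T (thompsonSubgroupAOf S) := by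
  set J := thompsonSubgroupAOf S with hJ
  have hJS : J ≤ S := Cfsg.Agent.PLocal.ThompsonJA.thompsonSubgroupAOf_le S
  have hfJ : Finite J := finite_of_le hJS
  have hfT : Finite T := finite_of_le hTS
  intro φ hφ hφm x hx hxT
  have h1 := hJT _ (Cfsg.Agent.H781.isNormalizerSystem_normSys F J hJS) _
    (Cfsg.Agent.H781.isNormalizerSystem_normSys F T hTS) J
  have hle : J ⊔ J ≤ J := sup_le le_rfl le_rfl
  have hJN : J ≤ normalizerIn S J := Cfsg.Agent.H802.le_normalizerIn hJS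
  have h2 : φ ∈ F.normalizerHom J J := by
    rw [mem_normalizerHom_iff]
    exact ⟨hJN, fun x => hJN (hφm x), _, restrict_mem hφ hle, fun x hx hx' => rfl,
      fun y hy hy' => hφm ⟨y, hy⟩⟩
  have h3 : φ ∈ F.normalizerHom T J := by
    rw [← Cfsg.Agent.H781.isNormalizerSystem_normSys F T hTS]
    apply h1
    rw [Cfsg.Agent.H781.isNormalizerSystem_normSys F J hJS]
    exact h2
  rw [mem_normalizerHom_iff] at h3
  obtain ⟨-, -, ψ, hψ, h4, h5⟩ := h3
  have h6 := h5 x hxT ((le_sup_right : T ≤ J ⊔ T) hxT)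
  rwa [h4 x hx] at h6

end Cfsg.Agent.H789.FusTorus
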