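import Cfsg.Agent.PLocal.ThompsonReplacement

/-!
# Thompson replacement for abelian subgroups of largest order (helper789)
-/

set_option autoImplicit false

namespace Cfsg.Agent.H789.QuadReplace

open Subgroup
open scoped commutatorElement
open Cfsg.Agent.PLocal.ThompsonReplacement

variable {G : Type*} [Group G] [Finite G]

/-- `A` abelian of largest order in `A V`, `V` abelian normalized by `A`, `[V, A] ≠ 1`: some `B ≤ A V` abelian of the same order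
acts nontrivially and quadratically on `V`. -/
theorem exists_quadratic {p : ℕ} [Fact p.Prime] {V A : Subgroup G} (hVp : IsPGroup p V)
    (hAp : IsPGroup p A) (hV : ∀ x ∈ V, ∀ y ∈ V, x * y = y * x) (hA : ∀ x ∈ A, ∀ y ∈ A, x * y = y * x)
    (hmax : ∀ B : Subgroup G, IsPGroup p B → (∀ x ∈ B, ∀ y ∈ B, x * y = y * x) →
      Nat.card B ≤ Nat.card A)
    (hAV : A ≤ normalizer (V : Set G)) (hne : ∃ a ∈ A, ∃ v ∈ V, a * v ≠ v * a) :
    ∃ B : Subgroup G, B ≤ A ⊔ V ∧ (∀ x ∈ B, ∀ y ∈ B, x * y = y * x) ∧ Nat.card B = Nat.card A ∧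
      (∃ b ∈ B, ∃ v ∈ V, b * v ≠ v * b) ∧
      ∀ b ∈ B, ∀ c ∈ B, ∀ v ∈ V, c * ⁅v, b⁆ = ⁅v, b⁆ * c := by
  classical
  have hPp : IsPGroup p (A ⊔ V : Subgroup G) := IsPGroup.to_sup_of_normal_right' hAp hVp hAV
  have hPV : A ⊔ V ≤ normalizer (V : Set G) := sup_le hAV le_normalizer
  let P : ℕ → Prop := fun n => ∃ B : Subgroup G, Nat.card (B ⊓ V : Subgroup G) = n ∧ B ≤ A ⊔ V ∧
    (∀ x ∈ B, ∀ y ∈ B, x * y = y * x) ∧ Nat.card B = Nat.card A ∧ (∃ b ∈ B, ∃ v ∈ V, b * v ≠ v * b)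
  have hP : P (Nat.card (A ⊓ V : Subgroup G)) := ⟨A, rfl, le_sup_left, hA, rfl, hne⟩
  have hbound : ∀ n, P n → n ≤ Nat.card G := by
    rintro n ⟨B, rfl, -⟩
    exact Subgroup.card_le_card_group _
  have hspec := Nat.findGreatest_spec (P := P) (hbound _ hP) hP
  set n₁ := Nat.findGreatest P (Nat.card G)
  obtain ⟨B, hBn, hBle, hB, hBc, hBne⟩ := hspec
  refine ⟨B, hBle, hB, hBc, hBne, ?_⟩
  by_contra hcon
  push Not at hcon
  obtain ⟨b, hb, c, hc, v, hv, hbc⟩ := hcon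
  have hBV : ∀ a ∈ B, ∀ x ∈ V, a * x * a⁻¹ ∈ V := fun a ha x hx =>
    (mem_normalizer_iff.1 (hPV (hBle ha)) x).1 hx
  set M := elemComm v B with hM
  have hMV : M ≤ V := elemComm_le hBV hv
  set B' := (B ⊓ centralizer (M : Set G)) ⊔ M with hB'
  have hcard : Nat.card B ≤ Nat.card B' := card_le_card_replacement hV hB hBV hv
  have hB'comm : ∀ x ∈ B', ∀ y ∈ B', x * y = y * x := by
    intro x hx y hy
    obtain ⟨b₁, hb₁, m₁, hm₁, rfl⟩ := exists_mul_of_mem_sup inf_le_right hx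
    obtain ⟨b₂, hb₂, m₂, hm₂, rfl⟩ := exists_mul_of_mem_sup inf_le_right hy
    have e1 : b₁ * b₂ = b₂ * b₁ := hB _ hb₁.1 _ hb₂.1
    have e2 : m₁ * m₂ = m₂ * m₁ := hV _ (hMV hm₁) _ (hMV hm₂)
    have e3 : m₁ * b₂ = b₂ * m₁ := (mem_centralizer_iff.1 hb₂.2) m₁ hm₁
    have e4 : m₂ * b₁ = b₁ * m₂ := (mem_centralizer_iff.1 hb₁.2) m₂ hm₂
    calc b₁ * m₁ * (b₂ * m₂) = b₁ * (m₁ * b₂) * m₂ := by group
      _ = (b₁ * b₂) * (m₁ * m₂) := by rw [e3]; group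
      _ = (b₂ * b₁) * (m₂ * m₁) := by rw [e1, e2]
      _ = b₂ * (b₁ * m₂) * m₁ := by group
      _ = b₂ * m₂ * (b₁ * m₁) := by rw [← e4]; group
  have hB'le : B' ≤ A ⊔ V := sup_le (inf_le_left.trans hBle) (hMV.trans le_sup_right)
  have hB'p : IsPGroup p B' := hPp.to_le hB'le
  have hB'card : Nat.card B' = Nat.card A :=
    le_antisymm (hmax B' hB'p hB'comm) (hBc ▸ hcard)
  have hbM : ⁅v, b⁆ ∈ M := mem_elemComm v B hb
  -- `B ⊓ V < B' ⊓ V`
  have hlt : Nat.card (B ⊓ V : Subgroup G) < Nat.card (B' ⊓ V : Subgroup G) := by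
    have hle : B ⊓ V ≤ B' ⊓ V := by
      refine le_inf (fun x hx => ?_) inf_le_right
      exact Subgroup.mem_sup_left ⟨hx.1, mem_centralizer_iff.2 fun m hm => hV _ (hMV hm) _ hx.2⟩
    refine lt_of_le_of_ne (Subgroup.card_le_of_le hle) fun heq => ?_
    have h1 := Subgroup.eq_of_le_of_card_ge hle heq.ge
    have h2 : ⁅v, b⁆ ∈ B' ⊓ V := ⟨Subgroup.mem_sup_right hbM, hMV hbM⟩
    rw [← h1] at h2
    exact hbc (hB _ hc _ h2.1)
  -- `B'` centralizes `V`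
  have hB'V : ∀ x ∈ B', ∀ w ∈ V, x * w = w * x := by
    by_contra hcon
    push Not at hcon
    obtain ⟨x, hx, w, hw, hxw⟩ := hcon
    have h1 : Nat.card (B' ⊓ V : Subgroup G) ≤ n₁ :=
      Nat.le_findGreatest (Subgroup.card_le_card_group _) ⟨B', rfl, hB'le, hB'comm, hB'card, x, hx, w, hw, hxw⟩
    omega
  -- `V ≤ B'`
  have hVB' : V ≤ B' := by
    have hcomm : ∀ x ∈ B' ⊔ V, ∀ y ∈ B' ⊔ V, x * y = y * x := by
      have hcen : B' ≤ centralizer (V : Set G) := fun x hx =>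
        mem_centralizer_iff.2 fun w hw => (hB'V x hx w hw).symm
      intro x hx y hy
      obtain ⟨b₁, hb₁, m₁, hm₁, rfl⟩ := exists_mul_of_mem_sup hcen hx
      obtain ⟨b₂, hb₂, m₂, hm₂, rfl⟩ := exists_mul_of_mem_sup hcen hy
      have e1 : b₁ * b₂ = b₂ * b₁ := hB'comm _ hb₁ _ hb₂
      have e2 : m₁ * m₂ = m₂ * m₁ := hV _ hm₁ _ hm₂
      have e3 : m₁ * b₂ = b₂ * m₁ := (hB'V _ hb₂ _ hm₁).symm
      have e4 : m₂ * b₁ = b₁ * m₂ := (hB'V _ hb₁ _ hm₂).symm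
      calc b₁ * m₁ * (b₂ * m₂) = b₁ * (m₁ * b₂) * m₂ := by group
        _ = (b₁ * b₂) * (m₁ * m₂) := by rw [e3]; group
        _ = (b₂ * b₁) * (m₂ * m₁) := by rw [e1, e2]
        _ = b₂ * (b₁ * m₂) * m₁ := by group
        _ = b₂ * m₂ * (b₁ * m₁) := by rw [← e4]; group
    have h1 := hmax (B' ⊔ V) (hPp.to_le (sup_le hB'le le_sup_right)) hcomm
    have h2 : B' = B' ⊔ V := Subgroup.eq_of_le_of_card_ge le_sup_left (by rw [hB'card]; exact h1)
    rw [h2]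
    exact le_sup_right
  -- `[V, B] ≤ [M, B]`
  have hMle : M ≤ ⁅M, A ⊔ V⁆ := by
    rw [hM, elemComm_le_iff]
    intro a ha
    obtain ⟨b₁, hb₁, m₁, hm₁, hv'⟩ := exists_mul_of_mem_sup inf_le_right (hVB' hv)
    have hm₁V := hMV hm₁
    have hb₁V : b₁ ∈ V := by
      have : b₁ = v * m₁⁻¹ := by rw [← hv']; group
      rw [this]; exact V.mul_mem hv (V.inv_mem hm₁V)
    have e1 : b₁ * a = a * b₁ := hB _ hb₁.1 _ ha
    have hk : ⁅m₁, a⁆ ∈ V := by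
      rw [commutatorElement_def]
      have : m₁ * a * m₁⁻¹ * a⁻¹ = m₁ * (a * m₁⁻¹ * a⁻¹) := by group
      rw [this]
      exact V.mul_mem hm₁V (hBV a ha _ (V.inv_mem hm₁V))
    have e2 : ⁅v, a⁆ = ⁅m₁, a⁆ := by
      rw [← hv']
      have e3 : ⁅b₁ * m₁, a⁆ = b₁ * ⁅m₁, a⁆ * (a * b₁⁻¹ * a⁻¹) := by
        rw [commutatorElement_def, commutatorElement_def]
        group
      have e4 : a * b₁⁻¹ * a⁻¹ = b₁⁻¹ := by
        have : a * b₁⁻¹ = b₁⁻¹ * a := by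
          have h5 := congrArg (fun z => b₁⁻¹ * z * b₁⁻¹) e1
          simp only [mul_assoc, inv_mul_cancel_left, mul_inv_cancel, mul_one] at h5
          exact h5
        rw [this, mul_inv_cancel_right]
      rw [e3, e4, hV b₁ hb₁V _ hk, mul_inv_cancel_right]
    rw [e2]
    exact commutator_mem_commutator hm₁ (hBle ha)
  have hM0 : M = ⊥ := eq_bot_of_le_commutator hPp.isNilpotent (hMV.trans le_sup_right) hMle
  rw [hM0, Subgroup.mem_bot] at hbM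
  rw [hbM] at hbc
  simp at hbc

end Cfsg.Agent.H789.QuadReplace
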