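import Cfsg.Agent.H789.StableCore
import Cfsg.Agent.Lib.SylowNormalInf

/-!
# The relative `Z(J)` over a normal `p`-subgroup, for normalizer-`p`-stable groups, `p` odd (helper789)
-/

set_option autoImplicit false

namespace Cfsg.Agent.H789.StableConstr

open Subgroup Cfsg
open Cfsg.Agent.PLocal Cfsg.Agent.H26.PStab
open Cfsg.Agent.Walter.GlaubermanFusion (Good Ctrl map_conj_le_iff)

variable {G : Type*} [Group G]

/-- If `R` is a normal `p`-subgroup of the normalizer-`p`-stable group `G` not containing its centralizer in `P`, there is a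
subgroup `W > R` of `P`, inside `R C_G(R)`, with `W / R` abelian, strongly closed in `P`. -/
theorem exists_strongly_closed {p : ℕ} [Fact p.Prime] [Finite G] (hp : p ≠ 2) (hst : NStab p G)
    (P : Sylow p G) {R : Subgroup G} [hRn : R.Normal] (hRP : R ≤ (P : Subgroup G))
    (hC : ¬ centralizer (R : Set G) ⊓ (P : Subgroup G) ≤ R) :
    ∃ W : Subgroup G, R < W ∧ W ≤ (P : Subgroup G) ∧
      (∀ w ∈ W, ∃ r ∈ R, ∃ c ∈ centralizer (R : Set G), w = r * c) ∧
      (∀ x ∈ W, ∀ y ∈ W, x⁻¹ * (y * x * y⁻¹) ∈ R) ∧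
      ∀ (g w : G), w ∈ W → g * w * g⁻¹ ∈ (P : Subgroup G) → g * w * g⁻¹ ∈ W := by
  classical
  have hCn : (centralizer (R : Set G)).Normal := Subgroup.normal_centralizer
  set K : Subgroup G := R ⊔ centralizer (R : Set G) with hK
  have hKn : K.Normal := by rw [hK]; infer_instance
  have hKdec : ∀ w ∈ K, ∃ r ∈ R, ∃ c ∈ centralizer (R : Set G), w = r * c := by
    intro w hw
    have h1 : w ∈ ((R ⊔ centralizer (R : Set G) : Subgroup G) : Set G) := hw
    rw [Subgroup.normal_mul] at h1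
    obtain ⟨r, hr, c, hc, rfl⟩ := h1
    exact ⟨r, hr, c, hc, rfl⟩
  let π : G →* G ⧸ R := QuotientGroup.mk' R
  have hπ1 : ∀ x : G, π x = 1 ↔ x ∈ R := fun x => QuotientGroup.eq_one_iff x
  have hπs : Function.Surjective π := QuotientGroup.mk'_surjective R
  set Kb : Subgroup (G ⧸ R) := K.map π with hKb
  let f : K →* Kb := π.subgroupMap K
  have hfs : Function.Surjective f := π.subgroupMap_surjective K
  have hfv : ∀ x : K, ((f x : Kb) : G ⧸ R) = π x := fun x => rfl
  have hfk : ∀ x : K, x ∈ f.ker ↔ (x : G) ∈ R := by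
    intro x
    rw [MonoidHom.mem_ker, ← hπ1, ← hfv]
    exact ⟨fun h => by rw [h]; rfl, fun h => Subtype.ext h⟩
  have hker : IsPGroup p f.ker := by
    rintro ⟨x, hx⟩
    obtain ⟨k, hk⟩ := (P.isPGroup'.to_le hRP) ⟨x, (hfk x).1 hx⟩
    refine ⟨k, ?_⟩
    have hk' : (x : G) ^ p ^ k = 1 := congrArg Subtype.val hk
    apply Subtype.ext
    apply Subtype.ext
    rw [Subgroup.coe_pow, Subgroup.coe_pow]
    exact hk'
  have hcomm : ∀ x : K, (orderOf x).Coprime p → ∀ d ∈ f.ker, Commute x d := by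
    intro x hx d hd
    obtain ⟨r, hr, c, hc, hxe⟩ := hKdec x x.2
    have hrc : Commute r c := (mem_centralizer_iff.1 hc r hr)
    obtain ⟨k, hk⟩ := (P.isPGroup'.to_le hRP) ⟨r, hr⟩
    have hk' : r ^ p ^ k = 1 := congrArg Subtype.val hk
    have hcop : (orderOf x).Coprime (p ^ k) := Nat.Coprime.pow_right k hx
    -- `x` lies in the centralizer of `R`
    have hxC : (x : G) ∈ centralizer (R : Set G) := by
      have h1 : ((x : G)) ^ (p ^ k) ∈ centralizer (R : Set G) := by
        rw [hxe, hrc.mul_pow, hk', one_mul]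
        exact pow_mem hc _
      have h2 : (x : G) ∈ zpowers ((x : G) ^ (p ^ k)) := by
        have h3 : (orderOf (x : G)).Coprime (p ^ k) := by rwa [Subgroup.orderOf_coe]
        obtain ⟨m, hm⟩ := exists_pow_eq_self_of_coprime h3.symm
        exact ⟨(m : ℤ), (zpow_natCast _ m).trans hm⟩
      exact (zpowers_le.2 h1) h2
    have hdR : ((d : K) : G) ∈ R := (hfk d).1 hd
    apply Subtype.ext
    exact ((mem_centralizer_iff.1 hxC) _ hdR).symm
  have hstK : NStab p Kb := PStabOdd.nstab_of_pgroup hp (hst.subgroup K) f hfs hker hcomm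
  let T' : Sylow p K := (Lib.SylowNormalInf.isPGroup_subgroupOf P K).toSylow
    (Lib.SylowNormalInf.not_dvd_relIndex P K)
  have hT' : (T' : Subgroup K) = (P : Subgroup G).subgroupOf K := rfl
  let T'' : Sylow p Kb := T'.mapSurjective hfs
  have hT'' : (T'' : Subgroup Kb) = ((P : Subgroup G).subgroupOf K).map f := by
    rw [← hT']; rfl
  set T : Subgroup G := (P : Subgroup G) ⊓ K with hT
  have hTmap : (T'' : Subgroup Kb).map Kb.subtype = T.map π := by
    rw [hT'', Subgroup.map_map]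
    have h1 : Kb.subtype.comp f = π.comp K.subtype := by
      ext x; rfl
    rw [h1, ← Subgroup.map_map, Subgroup.subgroupOf_map_subtype]
  have hRK : R ≤ K := le_sup_left
  have hRT : R ≤ T := le_inf hRP hRK
  set Z'' := centerThompsonAOf (T'' : Subgroup Kb) with hZ''
  set Z := centerThompsonAOf (T.map π) with hZ
  have hZm : Z''.map Kb.subtype = Z := by
    rw [hZ'', hZ, ← hTmap]
    exact ThompsonJA.map_centerThompsonAOf _ Kb.subtype_injective _
  have hZle : Z ≤ T.map π := ThompsonJA.centerThompsonAOf_le _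
  have hkerπ : π.ker = R := QuotientGroup.ker_mk' R
  have hWT : Z.comap π ≤ T := by
    intro w hw
    obtain ⟨t, ht, hte⟩ := hZle hw
    have h1 : π (t⁻¹ * w) = 1 := by
      rw [map_mul, map_inv, hte, inv_mul_cancel]
    have h2 := hRT ((hπ1 _).1 h1)
    have h3 := mul_mem ht h2
    rwa [mul_inv_cancel_left] at h3
  have hTb : T.map π ≠ ⊥ := by
    intro h
    rw [Subgroup.map_eq_bot_iff, hkerπ] at h
    exact hC fun x hx => h ⟨hx.2, (le_sup_right : _ ≤ K) hx.1⟩
  have hTp : IsPGroup p (T.map π) := (P.isPGroup'.to_le (inf_le_left : T ≤ _)).map π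
  have hZne : Z ≠ ⊥ := ThompsonJA.centerThompsonAOf_ne_bot (T.map π) hTp hTb
  have hRW : R ≤ Z.comap π := by
    intro r hr
    rw [Subgroup.mem_comap, (hπ1 r).2 hr]
    exact one_mem _
  refine ⟨Z.comap π, lt_of_le_of_ne hRW ?_, hWT.trans inf_le_left,
    fun w hw => hKdec w (hWT hw).2, ?_, ?_⟩
  · intro h
    apply hZne
    rw [eq_bot_iff]
    intro z hz
    obtain ⟨g, rfl⟩ := hπs z
    have h1 : g ∈ Z.comap π := hz
    rw [← h] at h1
    exact (hπ1 g).2 h1
  · intro x hx y hy
    rw [← hπ1]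
    have h1 := (ThompsonJA.isMulCommutative_iff Z).1 (ThompsonJA.isMulCommutative_centerThompsonAOf _)
      (π y) hy (π x) hx
    rw [map_mul, map_mul, map_mul, map_inv, map_inv, h1]
    group
  · intro g w hw hgw
    have hfr := Lib.SylowNormalInf.normalizer_inf_sup_eq_top P K
    have hg : g ∈ ((K ⊔ normalizer (T : Set G) : Subgroup G) : Set G) := by
      rw [sup_comm, hfr]; exact Subgroup.mem_top g
    rw [Subgroup.normal_mul] at hg
    obtain ⟨k, hk, h, hh, rfl⟩ := hg
    have hhZ : π h ∈ normalizer (Z : Set (G ⧸ R)) := by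
      apply ThompsonJA.normalizer_le_normalizer_centerThompsonAOf
      exact Subgroup.le_normalizer_map π ⟨h, hh, rfl⟩
    have hw' : h * w * h⁻¹ ∈ Z.comap π := by
      rw [Subgroup.mem_comap, map_mul, map_mul, map_inv]
      exact (mem_normalizer_iff.1 hhZ _).1 hw
    set w' := h * w * h⁻¹ with hw'd
    have he : (k * h) * w * (k * h)⁻¹ = k * w' * k⁻¹ := by rw [hw'd]; group
    simp only at hgw ⊢
    rw [he] at hgw ⊢
    have hw'T := hWT hw'
    have hk : k ∈ K := hk
    have hkw : k * w' * k⁻¹ ∈ T := ⟨hgw, K.mul_mem (K.mul_mem hk hw'T.2) (K.inv_mem hk)⟩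
    let kk : K := ⟨k, hk⟩
    let ww : K := ⟨w', hw'T.2⟩
    have hww : f ww ∈ Z'' := by
      have h1 : π w' ∈ Z := hw'
      rw [← hZm] at h1
      obtain ⟨z, hz, hze⟩ := h1
      have : z = f ww := Subtype.ext hze
      rwa [← this]
    have hwwT : ww ∈ (P : Subgroup G).subgroupOf K := hw'T.1
    obtain ⟨n, hn, c, hc, hnc⟩ := PStabOdd.ctrl hp (Nat.card Kb) Kb le_rfl hstK T''
      (zpowers (f ww)) (f kk)
      (by rw [zpowers_le, hT'']; exact ⟨ww, hwwT, rfl⟩)
      (by
        rw [MonoidHom.map_zpowers, zpowers_le, hT'']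
        refine ⟨kk * ww * kk⁻¹, hkw.1, ?_⟩
        rw [map_mul, map_mul, map_inv]
        rfl)
    have hcw : f ww * c = c * f ww := (mem_centralizer_iff.1 hc) _ (mem_zpowers _)
    have h5 : f kk * f ww * (f kk)⁻¹ ∈ Z'' := by
      have h6 : f kk * f ww * (f kk)⁻¹ = n * f ww * n⁻¹ := by
        rw [hnc]
        have e : n * c * f ww * (n * c)⁻¹ = n * (c * f ww) * c⁻¹ * n⁻¹ := by group
        rw [e, ← hcw]
        group
      rw [h6]
      exact (mem_normalizer_iff.1 hn _).1 hww
    have h7 : ((f kk * f ww * (f kk)⁻¹ : Kb) : G ⧸ R) ∈ Z := by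
      rw [← hZm]
      exact ⟨_, h5, rfl⟩
    rw [Subgroup.mem_comap]
    have h8 : π (k * w' * k⁻¹) = ((f kk * f ww * (f kk)⁻¹ : Kb) : G ⧸ R) := by
      rw [map_mul, map_mul, map_inv]
      rfl
    rw [h8]
    exact h7

end Cfsg.Agent.H789.StableConstr
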