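import Cfsg.Agent.H789.StableConstr
import Cfsg.Agent.H789.FusLayer
import Cfsg.Agent.H802.FusGroup
import Cfsg.Agent.S5086

/-!
# The fusion system of a normalizer-`p`-stable group is constrained, `p` odd (helper789)
-/

set_option autoImplicit false

namespace Cfsg.Agent.H789.StableConstrained

open Subgroup Cfsg Cfsg.FusionSystem Cfsg.Agent.H759
open Cfsg.Agent.H26.PStab

theorem isConstrained {G : Type*} [Group G] {p : ℕ} [Fact p.Prime] [Finite G] (hp : p ≠ 2)
    (hst : NStab p G) (P : Sylow p G) : (groupFusionSystem (P : Subgroup G)).IsConstrained p := by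
  classical
  set F := groupFusionSystem (P : Subgroup G) with hFd
  have hS : IsPGroup p (P : Subgroup G) := P.isPGroup'
  have hF : F.IsSaturated p := H802.groupFusionSystem_isSaturated P
  have hRN : F.IsNormal F.core := isNormal_core
  set R := F.core with hRd
  have hRsc : F.StronglyClosed R := IsNormal.stronglyClosed hRN
  have hRP : R ≤ (P : Subgroup G) := hRN.1
  refine ⟨hF, R, hRN, hRP, ?_⟩
  rintro Q ⟨φ, hφ, rfl⟩
  have hfin : Finite R := inferInstance
  have hr : φ.range = R := by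
    have h1 : φ.range ≤ R := by
      rintro _ ⟨x, rfl⟩
      exact hRsc.2 R le_rfl φ hφ x
    refine Subgroup.eq_of_le_of_card_ge h1 ?_
    rw [← Nat.card_congr (MonoidHom.ofInjective (F.injective_of_mem hφ)).toEquiv]
  rw [hr]
  by_contra hC
  set N : Subgroup G := normalizer (R : Set G) with hN
  have hPN : (P : Subgroup G) ≤ N := StronglyClosed.le_normalizer hRsc
  let P' : Sylow p N := P.subtype hPN
  have hP' : (P' : Subgroup N) = (P : Subgroup G).subgroupOf N := rfl
  have hRN' : (R.subgroupOf N).Normal := Subgroup.normal_in_normalizer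
  obtain ⟨W', hlt, hW'P, hdec, hab, hcl⟩ := StableConstr.exists_strongly_closed hp (hst.subgroup N) P'
    (R := R.subgroupOf N) (fun x hx => hRP hx) (by
      intro h
      apply hC
      rintro x ⟨hxP, hxC⟩
      have hxN : x ∈ N := hPN hxP
      have h1 : (⟨x, hxN⟩ : N) ∈ centralizer ((R.subgroupOf N : Subgroup N) : Set N) ⊓ (P' : Subgroup N) := by
        refine ⟨mem_centralizer_iff.2 fun y hy => ?_, hxP⟩
        exact Subtype.ext ((mem_centralizer_iff.1 hxC) y hy)
      exact h h1)
  set W : Subgroup G := W'.map N.subtype with hW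
  have hWN : ∀ (x : N), (x : G) ∈ W ↔ x ∈ W' := by
    intro x
    constructor
    · rintro ⟨y, hy, hyx⟩
      have : y = x := Subtype.ext hyx
      rwa [← this]
    · intro hx
      exact ⟨x, hx, rfl⟩
  have hRW : R ≤ W := by
    intro x hx
    exact ⟨⟨x, hPN (hRP hx)⟩, hlt.le hx, rfl⟩
  have hWP : W ≤ (P : Subgroup G) := by
    rintro _ ⟨x, hx, rfl⟩
    exact hW'P hx
  have hWsc : F.StronglyClosed W := by
    refine ⟨hWP, fun B hB φ hφ x => ?_⟩
    obtain ⟨ψ, ⟨-, hψP, g, hg⟩, hψe, hψR⟩ := hRN.2 B φ hφ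
    have hgN : g ∈ N := by
      rw [hN, mem_normalizer_iff]
      intro y
      constructor
      · intro hy
        have h1 : ψ ⟨y, le_sup_right (a := B) hy⟩ ∈ R := hψR.le ⟨_, hy, rfl⟩
        rw [hg] at h1
        exact h1
      · intro hy
        obtain ⟨z, hz, hze⟩ := hψR.ge hy
        rw [hg] at hze
        have h1 : (z : G) = y := by
          have h2 := congrArg (fun t => g⁻¹ * t * g) hze
          simpa [mul_assoc] using h2
        rw [← h1]
        exact hz
    have hx1 : φ x = g * (x : G) * g⁻¹ := by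
      rw [← hψe x, hg]
      rfl
    have hxP : φ x ∈ (P : Subgroup G) := (F.le_of_mem hφ).2 x
    have hxW := hB x.2
    have hxN : (x : G) ∈ N := hPN (hWP hxW)
    have h2 := hcl ⟨g, hgN⟩ ⟨x, hxN⟩ ((hWN ⟨x, hxN⟩).1 hxW) (by
      show g * (x : G) * g⁻¹ ∈ (P : Subgroup G)
      rw [← hx1]
      exact hxP)
    rw [hx1]
    exact (hWN _).2 h2
  have hWn : F.IsNormal W := by
    refine (Cfsg.Agent.S5086.result p hS F hF W).2 ⟨hWsc, fun A hAc hAr => ?_⟩
    refine FusLayer.le_of_radical_of_layers hS hRsc hWsc hRW ?_ ?_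
      (Cfsg.Agent.H745.le_of_isNormal_of_radical hS hRN hAc hAr) hAc hAr
    · rintro _ ⟨w, hw, rfl⟩
      obtain ⟨r, hr, c, hc, rfl⟩ := hdec w hw
      refine ⟨r, hr, c, mem_centralizer_iff.2 fun y hy => ?_, rfl⟩
      have hyN : y ∈ N := hPN (hRP hy)
      exact congrArg Subtype.val ((mem_centralizer_iff.1 hc) ⟨y, hyN⟩ hy)
    · rintro _ ⟨x, hx, rfl⟩ _ ⟨y, hy, rfl⟩
      exact hab x hx y hy
  have h3 : W ≤ R := IsNormal.le_core hWn
  apply hlt.not_ge
  intro x hx
  exact h3 ((hWN x).2 hx)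

end Cfsg.Agent.H789.StableConstrained
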