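import Cfsg.Prelude.Def_FusionSystem
import Cfsg.Agent.H789.PStabOdd

/-!
# `Z(J(P))` is normal in the fusion system of a normalizer-`p`-stable group, `p` odd (helper789)
-/

set_option autoImplicit false

namespace Cfsg.Agent.H789.StableCore

open Subgroup Cfsg
open Cfsg.Agent.PLocal
open Cfsg.Agent.Walter.GlaubermanFusion (Good Ctrl map_conj_le_iff)

variable {G : Type*} [Group G]

/-- Control of strong fusion by `N_G(Z)` makes `Z` normal in the fusion system. -/
theorem isNormal_of_good {P Z : Subgroup G} (hZ : Z ≤ P)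
    (h : ∀ (A : Subgroup G) (g : G), A ≤ P → A.map (MulAut.conj g).toMonoidHom ≤ P →
      Good (normalizer (Z : Set G)) A g) : (groupFusionSystem P).IsNormal Z := by
  refine ⟨hZ, ?_⟩
  rintro A φ ⟨hAP, hφP, g, hg⟩
  obtain ⟨n, hn, c, hc, rfl⟩ := h A g hAP (by
    rintro _ ⟨a, ha, rfl⟩
    have h1 := hφP ⟨a, ha⟩
    rw [hg] at h1
    exact h1)
  have hnA : ∀ x : A, n * (x : G) * n⁻¹ = φ x := by
    intro x
    rw [hg]
    have h1 := (mem_centralizer_iff.1 hc) x x.2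
    have e : n * c * (x : G) * (n * c)⁻¹ = n * (c * x) * c⁻¹ * n⁻¹ := by group
    rw [e, ← h1]
    group
  have hnZ : ∀ x ∈ Z, n * x * n⁻¹ ∈ Z := fun x hx => (mem_normalizer_iff.1 hn x).1 hx
  have hmem : ∀ x ∈ A ⊔ Z, n * x * n⁻¹ ∈ P := by
    intro x hx
    have h1 : (A ⊔ Z).map (MulAut.conj n).toMonoidHom ≤ P := by
      rw [Subgroup.map_sup, sup_le_iff]
      refine ⟨?_, ?_⟩
      · rintro _ ⟨a, ha, rfl⟩
        change n * a * n⁻¹ ∈ P
        rw [hnA ⟨a, ha⟩]
        exact hφP _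
      · rintro _ ⟨a, ha, rfl⟩
        exact hZ (hnZ a ha)
    exact h1 ⟨x, hx, rfl⟩
  refine ⟨conjHom (A ⊔ Z) n, ⟨sup_le hAP hZ, fun x => hmem x x.2, n, fun x => rfl⟩, fun x => ?_, ?_⟩
  · exact hnA x
  · apply le_antisymm
    · rintro _ ⟨x, hx, rfl⟩
      exact hnZ x hx
    · intro x hx
      have h1 : n⁻¹ * x * n ∈ Z := by
        have h2 := (mem_normalizer_iff.1 ((normalizer (Z : Set G)).inv_mem hn) x).1 hx
        rwa [inv_inv] at h2
      refine ⟨⟨n⁻¹ * x * n, le_sup_right (a := A) h1⟩, h1, ?_⟩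
      change n * (n⁻¹ * x * n) * n⁻¹ = x
      group

theorem isNormal_ZJ {p : ℕ} [Fact p.Prime] (hp : p ≠ 2) [Finite G] (hst : IsNormalizerPStable p G)
    (P : Sylow p G) : (groupFusionSystem (P : Subgroup G)).IsNormal (centerThompsonAOf (P : Subgroup G)) :=
  isNormal_of_good (ThompsonJA.centerThompsonAOf_le _) fun A g hA hg =>
    PStabOdd.ctrl hp (Nat.card G) G le_rfl (Cfsg.Agent.H26.PStab.NStab.of_prelude hst) P A g hA hg

end Cfsg.Agent.H789.StableCore
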